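import Groth.Agent.StrictCurveLib.Main
import Groth.Agent.SurfRRLib.Main
import Groth.Agent.RRVanLib.Main
import Groth.Agent.FibVALib.Curve
import Groth.Agent.AlbLib.AlgClosed
import Groth.Agent.PnDualLib.ProjAlg
import Groth.Agent.BlowRegLib.FieldNum
import Groth.Agent.PtBlowFactLib.Irr
import Groth.Agent.BlowUpLib.Strict
import Groth.Agent.ExtPowLib.Sheaf
import Groth.Agent.CurveH0Lib.Smooth
import Groth.Agent.MiscFlat6.LCPoint

/-!
# Genus of curves on surfaces and of their strict transforms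
-/

set_option autoImplicit false
set_option linter.style.haveILetI false
set_option linter.unusedSectionVars false
set_option maxHeartbeats 800000
set_option backward.isDefEq.respectTransparency false
set_option backward.isDefEq.respectTransparency.types false

universe u

open CategoryTheory CategoryTheory.Limits AlgebraicGeometry TopologicalSpace

noncomputable section

namespace StrictCurveLib

/-- The curve and its scheme-theoretic image. -/
theorem image_facts {X C : Scheme.{u}} [IsIntegral C] (j : C ⟶ X) [IsClosedImmersion j]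
    (hdimC : topologicalKrullDim C = 1) :
    IsIntegral j.ker.subscheme ∧ topologicalKrullDim (j.ker.support : Set X) = 1 ∧
      (∀ [IsIntegral j.ker.subscheme], j.ker.subschemeι (genericPoint j.ker.subscheme) = j (genericPoint C)) := by
  refine ⟨IsIntegral.of_isIso j.toImage, ?_, ?_⟩
  · rw [Scheme.Hom.support_ker, j.isClosedEmbedding.isClosed_range.closure_eq, ← hdimC]
    exact (j.isEmbedding.toHomeomorph.isHomeomorph.topologicalKrullDim_eq).symm
  · intro _
    conv_rhs => rw [← j.toImage_imageι]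
    rw [Scheme.Hom.comp_apply]
    refine congrArg j.ker.subschemeι ?_
    exact (genericPoint_eq_of_isOpenImmersion j.toImage).symm

variable {k : Type u} [Field k] [IsAlgClosed k] {X : Scheme.{u}} [X.Over (Spec (CommRingCat.of k))]
  [IsProper (X ↘ Spec (CommRingCat.of k))] [Smooth (X ↘ Spec (CommRingCat.of k))] [IsIntegral X]

/-- Adjunction for an integral curve, singular or not. -/
theorem genus_adjunction (hdim : topologicalKrullDim X = 2) {W : X.Modules}
    (hW : ExtPow.IsExtPow 2 (Omega.sheaf (X ↘ Spec (CommRingCat.of k))) W)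
    {C : Scheme.{u}} [IsIntegral C] (hdimC : topologicalKrullDim C = 1) (j : C ⟶ X) [IsClosedImmersion j]
    (o : C.Over (Spec (CommRingCat.of k)))
    (hj : j ≫ (X ↘ Spec (CommRingCat.of k)) = C ↘ Spec (CommRingCat.of k)) :
    2 * (Curv2.genus k C : ℤ) - 2 = HodgeIdxLib.pr k (ClSub.idealMod j.ker) (ClSub.idealMod j.ker) -
      HodgeIdxLib.pr k (ClSub.idealMod j.ker) W := by
  obtain ⟨h⟩ := o
  change j ≫ (X ↘ Spec (CommRingCat.of k)) = h at hj
  subst hj
  letI : C.Over (Spec (CommRingCat.of k)) := ⟨j ≫ (X ↘ Spec (CommRingCat.of k))⟩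
  haveI := CurvLib.isNoetherian k (X := X)
  obtain ⟨hint, hd, -⟩ := image_facts j hdimC
  haveI := hint
  have hI := IntMultLib.isInvertible_idealMod _ (SurfNumLib.isEffCartier_curve k (X := X) hdim
    (fun y => WeilExtLib.isRegular_stalk_smooth (X ↘ Spec (CommRingCat.of k)) y) j.ker hd)
  have hadj : FGA.intNum k X 2 ![ClSub.idealMod j.ker, ClSub.idealMod j.ker] (Coh.structureModule X) -
        FGA.intNum k X 2 ![ClSub.idealMod j.ker, W] (Coh.structureModule X) =
      -2 * Curv2.euler k C (Coh.structureModule C) := SurfRRLib.adjunction hdim W hW j hI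
  haveI : IsProper (C ↘ Spec (CommRingCat.of k)) :=
    inferInstanceAs (IsProper (j ≫ (X ↘ (Spec (CommRingCat.of k)))))
  haveI : LocallyOfFiniteType (Over.mk (C ↘ Spec (CommRingCat.of k))).hom :=
    inferInstanceAs (LocallyOfFiniteType (C ↘ Spec (CommRingCat.of k)))
  haveI : IsIntegral (Over.mk (C ↘ Spec (CommRingCat.of k))).left := ‹IsIntegral C›
  haveI : GeometricallyIntegral (C ↘ Spec (CommRingCat.of k)) :=
    AlbLib.geometricallyIntegral_of_isIntegral (Over.mk (C ↘ Spec (CommRingCat.of k)))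
  have hχ := RRVanLib.euler_structure (k := k) hdimC (FibVALib.finrank_h0_structure k C hdimC)
  rw [SurfNumLib.intNum_eq_pr_two hdim, SurfNumLib.intNum_eq_pr_two hdim] at hadj
  rw [hadj, hχ]
  ring

/-- Canonical modules exist. -/
theorem exists_canonical : ∃ W : X.Modules, ExtPow.IsExtPow 2 (Omega.sheaf (X ↘ Spec (CommRingCat.of k))) W := by
  haveI := CurvLib.isNoetherian k (X := X)
  have hd : OmegaSh.IsUniversal (OmegaSh.dOmega (X ↘ Spec (CommRingCat.of k))) := OmegaAffLib.isUniversal_dOmega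
  haveI : Coh.IsQCoh (Omega.sheaf (X ↘ Spec (CommRingCat.of k))) := OmegaAffLib.isQCoh_of_isUniversal hd
  obtain ⟨L, -, hL⟩ := ExtPowLib.exists_isExtPow (Omega.sheaf (X ↘ Spec (CommRingCat.of k))) 2
  exact ⟨L, hL⟩

/-- The blow-up of a closed point of a smooth proper surface is one. -/
theorem blowUp_facts (hdim : topologicalKrullDim X = 2) (x : X) (hx : IsClosed ({x} : Set X))
    {X' : Scheme.{u}} (π : X' ⟶ X) (hπ : BlowUp.IsBlowUp π (Scheme.IdealSheafData.vanishingIdeal ⟨{x}, hx⟩)) :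
    IsIntegral X' ∧ topologicalKrullDim X' = 2 ∧ IsProper (π ≫ (X ↘ Spec (CommRingCat.of k))) ∧
      Smooth (π ≫ (X ↘ Spec (CommRingCat.of k))) := by
  haveI := CurvLib.isNoetherian k (X := X)
  have hreg := fun y : X => WeilExtLib.isRegular_stalk_smooth (X ↘ Spec (CommRingCat.of k)) y
  haveI := hreg x
  have hd2 : ringKrullDim (X.presheaf.stalk x) = ((2 : ℕ) : WithBot ℕ∞) :=
    PnDualLib.dim_stalk_closed (k := k) hreg (d := 2) hdim x hx
  have hne : Scheme.IdealSheafData.vanishingIdeal (⟨{x}, hx⟩ : Closeds X) ≠ ⊥ := fun h => by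
    have hgx : genericPoint X ∈ ({x} : Set X) := by
      have h2 := Scheme.IdealSheafData.coe_support_vanishingIdeal (⟨{x}, hx⟩ : Closeds X)
      rw [h, Scheme.IdealSheafData.support_bot] at h2
      exact (Set.ext_iff.1 h2 (genericPoint X)).1 trivial
    have hall : ∀ y : X, y = x := fun y => by
      have := ((genericPoint_spec X).specializes (Set.mem_univ y)).mem_closed hx hgx
      exact this
    haveI : Subsingleton X := ⟨fun a b => (hall a).trans (hall b).symm⟩
    haveI : Subsingleton (IrreducibleCloseds X) := ⟨fun a b => IrreducibleCloseds.ext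
      ((Subsingleton.eq_univ_of_nonempty a.isIrreducible.nonempty).trans
        (Subsingleton.eq_univ_of_nonempty b.isIrreducible.nonempty).symm)⟩
    have h0 : topologicalKrullDim X ≤ 0 := Order.krullDim_nonpos_of_subsingleton
    rw [hdim] at h0
    exact absurd h0 (by norm_num)
  obtain ⟨hint, hgen, -⟩ := BlowUpLib.isIntegral_of_isBlowUp hπ hne
  haveI := hint
  haveI : IsProper π := BlowRegLib.isProper_b hπ
  letI : X'.Over (Spec (CommRingCat.of k)) := ⟨π ≫ (X ↘ (Spec (CommRingCat.of k)))⟩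
  haveI : IsProper (X' ↘ Spec (CommRingCat.of k)) := inferInstanceAs (IsProper (π ≫ _))
  have hreg' : ∀ z : X', IsRegularLocalRing (X'.presheaf.stalk z) :=
    fun z => PtBlowFactLib.isRegular_blowUp hreg x hx π hπ z
  refine ⟨hint, le_antisymm ?_ ?_, inferInstance, CurveH0Lib.smooth_of_regular k (X' ↘ Spec (CommRingCat.of k)) hreg'⟩
  · exact (BlowRegLib.intersection_rules_field (k := k) (π := π) rfl hdim.le x hx hd2 hπ
      CurvLib.isInvertible_structureModule CurvLib.isInvertible_structureModule).1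
  · have hπs : Function.Surjective π := fun w =>
      ((genericPoint_spec X).specializes (Set.mem_univ w)).mem_closed π.isClosedMap.isClosed_range ⟨_, hgen⟩
    exact hdim.symm.le.trans (MiscFlat6.dim_le_of_open_or_closed π hπs (Or.inr π.isClosedMap))


variable {X' : Scheme.{u}} [X'.Over (Spec (CommRingCat.of k))] [IsProper (X' ↘ Spec (CommRingCat.of k))]
  [Smooth (X' ↘ Spec (CommRingCat.of k))] [IsIntegral X']

/-- Intersection numbers of a strict transform. -/
theorem pr_strict (hdim : topologicalKrullDim X = 2) (hdim' : topologicalKrullDim X' = 2)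
    (π : X' ⟶ X) (hover : π ≫ (X ↘ Spec (CommRingCat.of k)) = X' ↘ Spec (CommRingCat.of k))
    (x : X) (hx : IsClosed ({x} : Set X)) (hd2 : ringKrullDim (X.presheaf.stalk x) = ((2 : ℕ) : WithBot ℕ∞))
    (hπ : BlowUp.IsBlowUp π (Scheme.IdealSheafData.vanishingIdeal ⟨{x}, hx⟩))
    {W : X.Modules} (hW : ExtPow.IsExtPow 2 (Omega.sheaf (X ↘ Spec (CommRingCat.of k))) W)
    {W' : X'.Modules} (hW' : ExtPow.IsExtPow 2 (Omega.sheaf (X' ↘ Spec (CommRingCat.of k))) W')
    (C : X.IdealSheafData) [IsIntegral C.subscheme] (hC : topologicalKrullDim (C.support : Set X) = 1)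
    (C' : X'.IdealSheafData) [IsIntegral C'.subscheme] (hC' : topologicalKrullDim (C'.support : Set X') = 1)
    (m : ℕ) (hm : C.comap π = C' * NumBlowLib.excI π x hx ^ m) :
    HodgeIdxLib.pr k (ClSub.idealMod C') (ClSub.idealMod C') - HodgeIdxLib.pr k (ClSub.idealMod C') W' =
      HodgeIdxLib.pr k (ClSub.idealMod C) (ClSub.idealMod C) - HodgeIdxLib.pr k (ClSub.idealMod C) W -
        (m : ℤ) * ((m : ℤ) - 1) := by
  haveI := CurvLib.isNoetherian k (X := X)
  haveI := CurvLib.isNoetherian k (X := X')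
  have hreg := fun y : X => WeilExtLib.isRegular_stalk_smooth (X ↘ Spec (CommRingCat.of k)) y
  haveI := hreg x
  obtain ⟨⟨eW⟩, -⟩ := CanonBlowFieldLib.canonical_blowUp (k := k) hdim hdim' π hover x hx hd2 hπ hW hW'
  haveI : SmoothOfRelativeDimension 2 (X ↘ Spec (CommRingCat.of k)) :=
    SurfNumLib.smoothRel_of_dim (k := k) (X := X) (by rw [hdim]; rfl)
  haveI : SmoothOfRelativeDimension 2 (X' ↘ Spec (CommRingCat.of k)) :=
    SurfNumLib.smoothRel_of_dim (k := k) (X := X') (by rw [hdim']; rfl)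
  have hWi := SurfNumLib.isInvertible_canonical (k := k) hW
  have hWi' := SurfNumLib.isInvertible_canonical (k := k) hW'
  have hCc : BlowUp.IsEffCartierIdeal C := SurfNumLib.isEffCartier_curve k (X := X) hdim hreg C hC
  have hC'c : BlowUp.IsEffCartierIdeal C' := SurfNumLib.isEffCartier_curve k (X := X') hdim'
    (fun z => WeilExtLib.isRegular_stalk_smooth (X' ↘ Spec (CommRingCat.of k)) z) C' hC'
  have hc := IntMultLib.isInvertible_idealMod _ hCc
  have hc' := IntMultLib.isInvertible_idealMod _ hC'c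
  have hI := NumBlowLib.excI_invertible π x hx hπ
  have hX2 : topologicalKrullDim X' ≤ ((2 : ℕ) : WithBot ℕ∞) := hdim'.le
  let E := NumBlowLib.excI π x hx
  have hEm : ∀ n : ℕ, BlowUp.IsEffCartierIdeal (E ^ n) := fun n => PtBlowLib.isEffCartier_pow hπ.1 n
  have hpow : ∀ n : ℕ, ∀ {Q : X'.Modules}, PicF.IsInvertible Q →
      HodgeIdxLib.pr k (ClSub.idealMod (E ^ n)) Q = n * HodgeIdxLib.pr k (ClSub.idealMod E) Q := by
    intro n
    induction n with
    | zero =>
      intro Q _
      obtain ⟨e⟩ := BlowPtLib.nonempty_idealMod_top X'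
      rw [Nat.cast_zero, zero_mul, pow_zero, Scheme.IdealSheafData.one_eq_top, HodgeIdxLib.pr,
        HodgeIdxLib.N_congr_head e]
      exact HodgeIdxLib.pr_unit Q
    | succ n ih =>
      intro Q hQ
      obtain ⟨e⟩ := SurfNumLib.nonempty_idealMod_mul (hEm n) hπ.1
      rw [pow_succ, HodgeIdxLib.pr, ← HodgeIdxLib.N_congr_head e, ← HodgeIdxLib.pr,
        HodgeIdxLib.pr_tensor hX2 (IntMultLib.isInvertible_idealMod _ (hEm n)) hI hQ, ih hQ]
      push_cast
      ring
  haveI := NumBlowLib.surjective (k := k) π x hx hd2 hπ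
  obtain ⟨a⟩ := SymSqLib.nonempty_pb_ideal (f := π) (K := C) hc
    (IntMultLib.isInvertible_idealMod _ (EffDivSurfLib.isEffCartier_comap hCc π))
  obtain ⟨b⟩ := SurfNumLib.nonempty_idealMod_mul hC'c (hEm m)
  have key1 : ∀ {Q : X'.Modules}, PicF.IsInvertible Q → HodgeIdxLib.pr k (KFlatLib.pb π (ClSub.idealMod C)) Q =
      HodgeIdxLib.pr k (ClSub.idealMod C') Q + m * HodgeIdxLib.pr k (ClSub.idealMod E) Q := fun {Q} hQ => by
    rw [← hpow m hQ, ← HodgeIdxLib.pr_tensor hX2 hc' (IntMultLib.isInvertible_idealMod _ (hEm m)) hQ,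
      HodgeIdxLib.pr, HodgeIdxLib.pr,
      HodgeIdxLib.N_congr_head (a ≪≫ CategoryTheory.eqToIso (congrArg ClSub.idealMod hm) ≪≫ b.symm)]
  have key2 : ∀ {Q : X'.Modules}, PicF.IsInvertible Q → HodgeIdxLib.pr k (KFlatLib.pb π W) Q =
      HodgeIdxLib.pr k W' Q + HodgeIdxLib.pr k (ClSub.idealMod E) Q := fun {Q} hQ => by
    rw [← HodgeIdxLib.pr_tensor hX2 hWi' hI hQ, HodgeIdxLib.pr, HodgeIdxLib.pr, HodgeIdxLib.N_congr_head eW.symm]
  obtain ⟨hcc, hcE, hEE⟩ := BlowRegLib.intersection_rules (k := k) (π := π) hover x hx hd2 hπ hc hc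
  obtain ⟨hcW, -, -⟩ := BlowRegLib.intersection_rules (k := k) (π := π) hover x hx hd2 hπ hc hWi
  have hP := AmpleDevLib.isInvertible_pb π hc
  have hPW := AmpleDevLib.isInvertible_pb π hWi
  have j1 := key1 hI
  have j2 := key1 hP
  have j3 := key1 hc'
  have j4 := key2 hc'
  have j5 := key1 hPW
  simp only [E, NumBlowLib.excI] at j1 j2 j3 j4 j5 hcc hcE hEE hcW ⊢
  obtain ⟨-, hWE, -⟩ := BlowRegLib.intersection_rules (k := k) (π := π) hover x hx hd2 hπ hWi hWi
  rw [hcE, hEE] at j1
  rw [hcc, HodgeIdxLib.pr_comm (k := k) (ClSub.idealMod (BlowUp.exceptional π (Scheme.IdealSheafData.vanishingIdeal ⟨{x}, hx⟩)))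
    (KFlatLib.pb π (ClSub.idealMod C)), hcE, HodgeIdxLib.pr_comm (k := k) (ClSub.idealMod C') (KFlatLib.pb π (ClSub.idealMod C))] at j2
  rw [hcW, HodgeIdxLib.pr_comm (k := k) (ClSub.idealMod (BlowUp.exceptional π (Scheme.IdealSheafData.vanishingIdeal ⟨{x}, hx⟩)))
    (KFlatLib.pb π W), hWE, HodgeIdxLib.pr_comm (k := k) (ClSub.idealMod C') (KFlatLib.pb π W)] at j5
  rw [HodgeIdxLib.pr_comm (k := k) (ClSub.idealMod (BlowUp.exceptional π (Scheme.IdealSheafData.vanishingIdeal ⟨{x}, hx⟩)))
    (ClSub.idealMod C')] at j3 j4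
  rw [HodgeIdxLib.pr_comm (k := k) W' (ClSub.idealMod C')] at j4
  linear_combination j4 - j3 + j5 - j2 + ((m:ℤ) - 1) * j1

end StrictCurveLib

end
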