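import Groth.Agent.PtBlowLib.Step
import Groth.Agent.BlowRegLib.RegTwoMult
import Groth.Agent.CanonBlowFieldLib.Main
import Groth.Agent.EffDivSurfLib.Main
import Groth.Agent.SurfNumLib.IdealMul
import Groth.Agent.SurfNumLib.Config
import Groth.Agent.SymSqLib.Pic
import Groth.Agent.S1568

/-!
# Strict transforms of curves under the blow-up of a point of a surface
-/

set_option autoImplicit false
set_option linter.style.haveILetI false
set_option linter.unusedSectionVars false
set_option maxHeartbeats 1600000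
set_option backward.isDefEq.respectTransparency false
set_option backward.isDefEq.respectTransparency.types false

universe u

open CategoryTheory CategoryTheory.Limits AlgebraicGeometry TopologicalSpace Opposite
open KFlatLib (pb)
open CubeConsLib (PicA clA clA_eq_iff pullA pullA_clA clA_tensor clA_pow)
open NumBlowLib (excI eCl excI_invertible)

noncomputable section

namespace StrictCurveLib

/-- An ideal with reduced closed subscheme, pulled back along an open immersion. -/
theorem comap_eq_of_support {V Y : Scheme.{u}} (s : V ⟶ Y) [IsOpenImmersion s] (I : Y.IdealSheafData)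
    [IsReduced I.subscheme] : I.comap s = Scheme.IdealSheafData.vanishingIdeal (I.comap s).support := by
  haveI : IsReduced (pullback s I.subschemeι) := isReduced_of_isOpenImmersion (pullback.snd s I.subschemeι)
  haveI : IsReduced (I.comap s).subscheme := isReduced_of_isOpenImmersion (I.comapIso s).hom
  exact AlgSpRegLib.eq_vanishingIdeal_support _

theorem stalkIdeal_eq_top' {Y : Scheme.{u}} (J : Y.IdealSheafData) {y : Y} (hy : y ∉ J.support) :
    IntMult.stalkIdeal J y = ⊤ :=
  not_not.1 fun h => hy ((SDivLib.mem_support_iff_stalk J y).2 h)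

variable {k : Type u} [Field k] [IsAlgClosed k] {X X' : Scheme.{u}} [X.Over (Spec (CommRingCat.of k))]
  [IsProper (X ↘ Spec (CommRingCat.of k))] [X'.Over (Spec (CommRingCat.of k))]
  [IsProper (X' ↘ Spec (CommRingCat.of k))]
  [IsIntegral X] [IsIntegral X'] [Smooth (X ↘ Spec (CommRingCat.of k))] [Smooth (X' ↘ Spec (CommRingCat.of k))]
  (hX : topologicalKrullDim X = 2) (hX' : topologicalKrullDim X' = 2)
  (π : X' ⟶ X) (hover : π ≫ (X ↘ Spec (CommRingCat.of k)) = X' ↘ Spec (CommRingCat.of k))
  (x : X) (hx : IsClosed ({x} : Set X))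
  [IsRegularLocalRing (X.presheaf.stalk x)] (hd2 : ringKrullDim (X.presheaf.stalk x) = 2)
  (hπ : BlowUp.IsBlowUp π (Scheme.IdealSheafData.vanishingIdeal ⟨{x}, hx⟩))
  (C : X.IdealSheafData) [IsIntegral C.subscheme] (hC : topologicalKrullDim (C.support : Set X) = 1)
  (m : ℕ) (hm : C ≤ Scheme.IdealSheafData.vanishingIdeal ⟨{x}, hx⟩ ^ m)
  (hm' : ¬ C ≤ Scheme.IdealSheafData.vanishingIdeal ⟨{x}, hx⟩ ^ (m + 1))
  (C' : X'.IdealSheafData) [IsIntegral C'.subscheme] (hC' : topologicalKrullDim (C'.support : Set X') = 1)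
  (hgen : π (C'.subschemeι (genericPoint C'.subscheme)) = C.subschemeι (genericPoint C.subscheme))

include k hX hd2 hπ hC hm' in
/-- The multiplicity is exactly `m`. -/
theorem not_le_succ : ¬ C.comap π ≤ excI π x hx ^ (m + 1) := by
  haveI := CurvLib.isNoetherian k (X := X)
  have hCc : BlowUp.IsEffCartierIdeal C := SurfNumLib.isEffCartier_curve k (X := X) hX
    (fun y => WeilExtLib.isRegular_stalk_smooth (X ↘ Spec (CommRingCat.of k)) y) C hC
  intro h
  let g := X.fromSpecStalk x
  haveI := AlgSpLib.flat_fromSpecStalk x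
  let q := pullback.fst π g
  let fP : pullback π g ⟶ Spec (CommRingCat.of (X.presheaf.stalk x)) := pullback.snd π g
  have hfP := PtBlowLib.isBlowUp_spec hx π hπ
  obtain ⟨t, -, ht⟩ := DivDescLib.exists_gen hCc x
  let EP := BlowUp.exceptional fP (Curv2.idealSheaf (X.presheaf.stalk x) (IsLocalRing.maximalIdeal (X.presheaf.stalk x)))
  have hEP : EP = (excI π x hx).comap q := by
    show Scheme.IdealSheafData.comap _ fP = _
    rw [← PtBlowLib.stalkIdeal_vanishing_point x hx, ← Scheme.IdealSheafData.comap_comp, pullback.condition,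
      Scheme.IdealSheafData.comap_comp, PtBlowLib.comap_fromSpecStalk]
  have hJP : (Curv2.idealSheaf (X.presheaf.stalk x) (Ideal.span {t})).comap fP = (C.comap π).comap q := by
    rw [← ht, ← PtBlowLib.comap_fromSpecStalk, ← Scheme.IdealSheafData.comap_comp, ← pullback.condition,
      Scheme.IdealSheafData.comap_comp]
  by_cases htm : t ∈ IsLocalRing.maximalIdeal (X.presheaf.stalk x) ^ (m + 1)
  · refine hm' (SDivLib.le_of_stalk fun y => ?_)
    rw [SDivLib.stalkIdeal_pow]
    by_cases hy : y = x
    · subst hy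
      rw [PtBlowLib.stalkIdeal_vanishing_point y hx, ht, Ideal.span_singleton_le_iff_mem]
      exact htm
    · rw [StrictCurveLib.stalkIdeal_eq_top' (Scheme.IdealSheafData.vanishingIdeal ⟨{x}, hx⟩) (y := y) (fun hs => hy (by
        rw [← SetLike.mem_coe, Scheme.IdealSheafData.coe_support_vanishingIdeal] at hs
        exact hs)), Ideal.top_pow]
      exact le_top
  · classical
    obtain ⟨μ, hμ, hμ'⟩ : ∃ μ, t ∈ IsLocalRing.maximalIdeal (X.presheaf.stalk x) ^ μ ∧
        t ∉ IsLocalRing.maximalIdeal (X.presheaf.stalk x) ^ (μ + 1) ∧ μ ≤ m := by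
      have hex : ∃ n, t ∉ IsLocalRing.maximalIdeal (X.presheaf.stalk x) ^ n := ⟨m + 1, htm⟩
      have h0 : Nat.find hex ≠ 0 := fun h0 => by
        have := Nat.find_spec hex
        rw [h0, pow_zero, Ideal.one_eq_top] at this
        exact this trivial
      obtain ⟨μ, hμ⟩ := Nat.exists_eq_succ_of_ne_zero h0
      refine ⟨μ, not_not.1 (Nat.find_min hex (by omega)), ?_, ?_⟩
      · have := Nat.find_spec hex
        rwa [hμ] at this
      · have := Nat.find_min' hex htm
        omega
    obtain ⟨-, hnle, -⟩ := BlowRegLib.divisor_regTwo (X.presheaf.stalk x) hd2 fP hfP t μ hμ hμ'.1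
    refine hnle ?_
    rw [hJP]
    refine (Scheme.IdealSheafData.comap_mono q h).trans ?_
    show Scheme.IdealSheafData.comap (excI π x hx ^ (m + 1)) q ≤ _
    rw [PtBlowLib.comap_pow, ← hEP]
    exact fun U => by
      rw [Scheme.IdealSheafData.ideal_pow, Scheme.IdealSheafData.ideal_pow, Pi.pow_apply, Pi.pow_apply]
      exact Ideal.pow_le_pow_right (Nat.succ_le_succ hμ'.2)

include k hX hX' hover hd2 hπ hC hm hm' hC' hgen in
/-- **The total transform is the strict transform plus `m` times the exceptional curve.** -/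
theorem comap_eq : C.comap π = C' * excI π x hx ^ m := by
  haveI := CurvLib.isNoetherian k (X := X)
  haveI := CurvLib.isNoetherian k (X := X')
  have hd2' : ringKrullDim (X.presheaf.stalk x) = ((2 : ℕ) : WithBot ℕ∞) := hd2
  haveI := NumBlowLib.surjective (k := k) π x hx hd2' hπ
  have hreg' : ∀ z : X', IsRegularLocalRing (X'.presheaf.stalk z) :=
    fun z => WeilExtLib.isRegular_stalk_smooth (X' ↘ Spec (CommRingCat.of k)) z
  have hCc : BlowUp.IsEffCartierIdeal C := SurfNumLib.isEffCartier_curve k (X := X) hX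
    (fun y => WeilExtLib.isRegular_stalk_smooth (X ↘ Spec (CommRingCat.of k)) y) C hC
  have hC'c : BlowUp.IsEffCartierIdeal C' := SurfNumLib.isEffCartier_curve k (X := X') hX' hreg' C' hC'
  let E := excI π x hx
  let J := C.comap π
  have hJc : BlowUp.IsEffCartierIdeal J := EffDivSurfLib.isEffCartier_comap hCc π
  have hJle : J ≤ E ^ m := (Scheme.IdealSheafData.comap_mono π hm).trans (PtBlowLib.comap_pow π _ m).le
  obtain ⟨R, hR⟩ := PtBlowLib.exists_mul_eq (PtBlowLib.isEffCartier_pow hπ.1 m) hJle
  have hRc : BlowUp.IsEffCartierIdeal R := by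
    refine BlowUpLib.isEffCartier_of_mul (I := E ^ m) (J := R) ?_
    rw [mul_comm, ← hR]
    exact hJc
  have hRE : ¬ R ≤ E := fun h => not_le_succ (k := k) hX π x hx hd2 hπ C hC m hm' (by
    intro U
    rw [show C.comap π = R * E ^ m from hR, Scheme.IdealSheafData.ideal_mul, Pi.mul_apply,
      Scheme.IdealSheafData.ideal_pow, Scheme.IdealSheafData.ideal_pow, Pi.pow_apply, Pi.pow_apply, pow_succ']
    exact Ideal.mul_mono (h U) le_rfl)
  -- off the exceptional curve
  let V : X.Opens := ⟨({x} : Set X)ᶜ, hx.isOpen_compl⟩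
  haveI := BlowRegLib.isIso_off_centre hπ V (BlowPtLib.comap_eq_top_of_disjoint V.ι _ fun z h => by
    rw [← SetLike.mem_coe, Scheme.IdealSheafData.coe_support_vanishingIdeal] at h
    exact z.2 h)
  let s : (V : Scheme.{u}) ⟶ X' := inv (π ∣_ V) ≫ (π ⁻¹ᵁ V).ι
  have hs : s ≫ π = V.ι := by rw [Category.assoc, ← morphismRestrict_ι, IsIso.inv_hom_id_assoc]
  have hsπ : ∀ v : (V : Scheme.{u}), π (s v) = V.ι v := fun v => by rw [← Scheme.Hom.comp_apply, hs]
  have hoff : ∀ z : X', π z ≠ x → ∃ v : (V : Scheme.{u}), s v = z := fun z hz => by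
    refine ⟨(π ∣_ V) ⟨z, hz⟩, ?_⟩
    have h1 : (inv (π ∣_ V)) ((π ∣_ V) ⟨z, hz⟩) = ⟨z, hz⟩ := by
      rw [← Scheme.Hom.comp_apply, IsIso.hom_inv_id]; rfl
    show (π ⁻¹ᵁ V).ι ((inv (π ∣_ V)) ((π ∣_ V) ⟨z, hz⟩)) = z
    rw [h1]
    rfl
  let η := C.subschemeι (genericPoint C.subscheme)
  let η' := C'.subschemeι (genericPoint C'.subscheme)
  have hCcl : (C.support : Set X) = closure {η} := by
    rw [← C.range_subschemeι, ← Set.image_univ, ← (genericPoint_spec C.subscheme).def,
      ← C.subschemeι.isClosedEmbedding.closure_image_eq, Set.image_singleton]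
  have hC'cl : (C'.support : Set X') = closure {η'} := by
    rw [← C'.range_subschemeι, ← Set.image_univ, ← (genericPoint_spec C'.subscheme).def,
      ← C'.subschemeι.isClosedEmbedding.closure_image_eq, Set.image_singleton]
  have hηx : η ≠ x := fun h => by
    rw [hCcl, h, hx.closure_eq] at hC
    haveI : Subsingleton ({x} : Set X) := ⟨fun a b => Subtype.ext (a.2.trans b.2.symm)⟩
    have h0 : topologicalKrullDim ({x} : Set X) ≤ 0 := by
      haveI : Subsingleton (IrreducibleCloseds ({x} : Set X)) := ⟨fun a b => IrreducibleCloseds.ext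
        ((Subsingleton.eq_univ_of_nonempty a.isIrreducible.nonempty).trans
          (Subsingleton.eq_univ_of_nonempty b.isIrreducible.nonempty).symm)⟩
      exact Order.krullDim_nonpos_of_subsingleton
    rw [hC] at h0
    exact absurd h0 (by norm_num)
  obtain ⟨v₀, hv₀⟩ := hoff η' (by rw [hgen]; exact hηx)
  have hsupp : ∀ v : (V : Scheme.{u}), s v ∈ C'.support ↔ V.ι v ∈ C.support := fun v => by
    rw [← SetLike.mem_coe, ← SetLike.mem_coe, hCcl, hC'cl, ← specializes_iff_mem_closure, ← specializes_iff_mem_closure]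
    constructor
    · intro h
      have h1 := h.map π.continuous
      rwa [hsπ, show π η' = η from hgen] at h1
    · intro h
      have h1 : V.ι v₀ ⤳ V.ι v := by rw [← hsπ v₀, hv₀, show π η' = η from hgen]; exact h
      have h2 : v₀ ⤳ v := V.ι.isOpenEmbedding.toIsInducing.specializes_iff.1 h1
      rw [← hv₀]
      exact h2.map s.continuous
  have hCs : C'.comap s = C.comap V.ι := by
    rw [comap_eq_of_support s C', comap_eq_of_support V.ι C]
    congr 1
    refine SetLike.coe_injective (Set.ext fun v => ?_)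
    rw [SetLike.mem_coe, SetLike.mem_coe, Scheme.IdealSheafData.support_comap, Scheme.IdealSheafData.support_comap]
    exact hsupp v
  have hst : ∀ z : X', π z ≠ x → IntMult.stalkIdeal C' z = IntMult.stalkIdeal R z := fun z hz => by
    obtain ⟨v, rfl⟩ := hoff z hz
    have hE1 : IntMult.stalkIdeal E (s v) = ⊤ :=
      StrictCurveLib.stalkIdeal_eq_top' _ fun h => hz ((PtBlowLib.mem_support_exc hx π (s v)).1 h)
    have hb : Function.Bijective (s.stalkMap v).hom := ConcreteCategory.bijective_of_isIso (s.stalkMap v)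
    rw [← Ideal.comap_map_of_bijective (s.stalkMap v).hom hb (I := IntMult.stalkIdeal C' (s v)),
      ← Ideal.comap_map_of_bijective (s.stalkMap v).hom hb (I := IntMult.stalkIdeal R (s v))]
    congr 1
    have hJR : IntMult.stalkIdeal J (s v) = IntMult.stalkIdeal R (s v) := by
      rw [hR, SDivLib.stalkIdeal_mul, SDivLib.stalkIdeal_pow, hE1, Ideal.top_pow, Ideal.mul_top]
    rw [← hJR, ← DivDescLib.stalkIdeal_comap, ← DivDescLib.stalkIdeal_comap, hCs, ← Scheme.IdealSheafData.comap_comp, hs]
  have hR' : R ≤ C' := by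
    rw [AlgSpRegLib.eq_vanishingIdeal_support C']
    refine Scheme.IdealSheafData.le_support_iff_le_vanishingIdeal.1 ?_
    rw [← SetLike.coe_subset_coe, hC'cl]
    refine (R.support.isClosed.closure_subset_iff).2 (Set.singleton_subset_iff.2 ?_)
    rw [SetLike.mem_coe, SDivLib.mem_support_iff_stalk, ← hst η' (by rw [hgen]; exact hηx),
      ← SDivLib.mem_support_iff_stalk, ← SetLike.mem_coe, hC'cl]
    exact subset_closure rfl
  obtain ⟨R', hR'e⟩ := PtBlowLib.exists_mul_eq hC'c hR'
  have hR'c : BlowUp.IsEffCartierIdeal R' := by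
    refine BlowUpLib.isEffCartier_of_mul (I := C') (J := R') ?_
    rw [mul_comm, ← hR'e]
    exact hRc
  have hR'R : R ≤ R' := fun U => by
    rw [hR'e, Scheme.IdealSheafData.ideal_mul, Pi.mul_apply]
    exact Ideal.mul_le_left
  have hR'off : ∀ z : X', π z ≠ x → IntMult.stalkIdeal R' z = ⊤ := fun z hz => by
    obtain ⟨t, ht, htC⟩ := DivDescLib.exists_gen hC'c z
    have h1 := hst z hz
    rw [hR'e, SDivLib.stalkIdeal_mul, htC] at h1
    rw [Ideal.eq_top_iff_one]
    have h2 : t ∈ IntMult.stalkIdeal R' z * Ideal.span {t} := h1 ▸ Ideal.mem_span_singleton_self t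
    obtain ⟨r, hr, hrt⟩ := Ideal.mem_mul_span_singleton.1 h2
    have : r = 1 := (mul_cancel_right_mem_nonZeroDivisors ht).1 (hrt.trans (one_mul t).symm)
    exact this ▸ hr
  -- `R'` is supported at finitely many points
  obtain ⟨φ, hφ, -, -⟩ := NumBlowLib.exists_line (k := k) π x hx hd2' hπ
  haveI := hφ
  have hsupE : ((R ⊔ E).support : Set X') = (R.support : Set X') ∩ E.support := by
    rw [Scheme.IdealSheafData.support_sup]
    rfl
  obtain ⟨-, hcl⟩ := PtBlowLib.finite_of_not_le_line E (R ⊔ E) k (asIso φ) (hsupE ▸ Set.inter_subset_right)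
    (fun h => hRE (le_sup_left.trans h))
  have hR'top : ∀ z : X', z ∉ R'.support := fun z hz => by
    have hpz : π z = x := by
      by_contra h
      exact (SDivLib.mem_support_iff_stalk R' z).1 hz (hR'off z h)
    have hzc : IsClosed ({z} : Set X') :=
      hcl z (hsupE.symm ▸ ⟨Scheme.IdealSheafData.support_antitone hR'R hz, (PtBlowLib.mem_support_exc hx π z).2 hpz⟩)
    have h1 := Groth.Agent.S1568.result X' R' hR'c z hz fun v hv hvz => by
      have hpv : π v = x := by
        by_contra h
        exact (SDivLib.mem_support_iff_stalk R' v).1 hv (hR'off v h)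
      have hvc : IsClosed ({v} : Set X') :=
        hcl v (hsupE.symm ▸ ⟨Scheme.IdealSheafData.support_antitone hR'R hv, (PtBlowLib.mem_support_exc hx π v).2 hpv⟩)
      exact (Set.mem_singleton_iff.1 (hvz.mem_closed hvc rfl)).symm
    rw [PnDualLib.dim_stalk_closed (k := k) hreg' (d := 2) hX' z hzc] at h1
    exact absurd h1 (by norm_num)
  have hR'1 : R' = 1 := DivDescLib.eq_of_stalk fun z => by
    rw [SDivLib.stalkIdeal_one, StrictCurveLib.stalkIdeal_eq_top' R' (hR'top z)]
  rw [show C.comap π = R * E ^ m from hR, hR'e, hR'1, one_mul]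

include k hX hX' hπ in
/-- Classes in the Picard group. -/
theorem clA_of_comap [Surjective π] (h : C.comap π = C' * excI π x hx ^ m)
    (hC : topologicalKrullDim (C.support : Set X) = 1) (hC' : topologicalKrullDim (C'.support : Set X') = 1) :
    ∃ (hI : PicF.IsInvertible (ClSub.idealMod C)) (hI' : PicF.IsInvertible (ClSub.idealMod C')),
      pullA π (clA hI) = clA hI' + (m : ℤ) • eCl π x hx hπ := by
  haveI := CurvLib.isNoetherian k (X := X)
  haveI := CurvLib.isNoetherian k (X := X')
  have hCc : BlowUp.IsEffCartierIdeal C := SurfNumLib.isEffCartier_curve k (X := X) hX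
    (fun y => WeilExtLib.isRegular_stalk_smooth (X ↘ Spec (CommRingCat.of k)) y) C hC
  have hC'c : BlowUp.IsEffCartierIdeal C' := SurfNumLib.isEffCartier_curve k (X := X') hX'
    (fun z => WeilExtLib.isRegular_stalk_smooth (X' ↘ Spec (CommRingCat.of k)) z) C' hC'
  refine ⟨IntMultLib.isInvertible_idealMod _ hCc, IntMultLib.isInvertible_idealMod _ hC'c, ?_⟩
  have hJc := EffDivSurfLib.isEffCartier_comap hCc π
  have hpow : ∀ n : ℕ, clA (IntMultLib.isInvertible_idealMod _ (PtBlowLib.isEffCartier_pow hπ.1 n)) =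
      n • eCl π x hx hπ := by
    intro n
    induction n with
    | zero =>
      rw [zero_smul, ← CubeConsLib.clA_one]
      refine (clA_eq_iff _ _).2 ?_
      rw [pow_zero, Scheme.IdealSheafData.one_eq_top]
      exact BlowPtLib.nonempty_idealMod_top X'
    | succ n ih =>
      rw [succ_nsmul, ← ih, eCl, ← clA_tensor]
      refine (clA_eq_iff _ _).2 ?_
      rw [pow_succ]
      exact (SurfNumLib.nonempty_idealMod_mul (PtBlowLib.isEffCartier_pow hπ.1 n) hπ.1).map Iso.symm
  rw [pullA_clA, natCast_zsmul, ← hpow, ← clA_tensor]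
  refine (clA_eq_iff _ _).2 ?_
  obtain ⟨a⟩ := SymSqLib.nonempty_pb_ideal (f := π) (K := C) (IntMultLib.isInvertible_idealMod _ hCc)
    (IntMultLib.isInvertible_idealMod _ hJc)
  obtain ⟨b⟩ := SurfNumLib.nonempty_idealMod_mul hC'c (PtBlowLib.isEffCartier_pow hπ.1 m)
  exact ⟨a ≪≫ CategoryTheory.eqToIso (congrArg ClSub.idealMod h) ≪≫ b.symm⟩

end StrictCurveLib

end
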